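import Mathlib
import Groth.Prelude.Def_FrobAlg
import Groth.Prelude.Def_Frob
import Groth.Agent.Lib.Helper6.FrobSm.Smooth

set_option autoImplicit false
set_option backward.isDefEq.respectTransparency.types false
set_option synthInstance.maxHeartbeats 400000
set_option maxHeartbeats 4000000
set_option linter.style.haveILetI false
set_option linter.unusedSectionVars false
set_option linter.unusedVariables false
set_option linter.unusedSimpArgs false
set_option linter.unnecessarySimpa false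

/-! helper2: the relative Frobenius of a smooth morphism of schemes is flat. -/

open CategoryTheory CategoryTheory.Limits AlgebraicGeometry Opposite TensorProduct

universe u

namespace Groth.Agent.Helper2.FrobSynt

open Groth.Agent.Lib.Helper6.FrobSm

/-- ring level: a map out of a pushout of `A → B` along the Frobenius of `A`, which is the
Frobenius on `B` and the structure map on `A`, is flat when `B` is smooth over `A`. -/
theorem flat_of_isPushout_frob (p : ℕ) [hp : Fact p.Prime] {A B : Type u} [CommRing A] [CommRing B]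
    [Algebra A B] [CharP A p] [CharP B p] [Algebra.Smooth A B]
    {P : CommRingCat.{u}} (FA : A →+* A) (hFA : ∀ a, FA a = a ^ p)
    (inl : CommRingCat.of B ⟶ P) (inr : CommRingCat.of A ⟶ P)
    (h : IsPushout (CommRingCat.ofHom (algebraMap A B)) (CommRingCat.ofHom FA) inl inr)
    (G : P ⟶ CommRingCat.of B) (hG1 : ∀ b : B, G.hom (inl.hom b) = b ^ p)
    (hG2 : ∀ a : A, G.hom (inr.hom a) = algebraMap A B a) : G.hom.Flat := by
  have hT := CommRingCat.isPushout_tensorProduct A B (FrobAlg.Twist p A)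
  obtain ⟨eTw, heTw⟩ : ∃ e : CommRingCat.of A ≅ CommRingCat.of (FrobAlg.Twist p A),
      e.hom = CommRingCat.ofHom ((FrobAlg.toTwist p A : A →+* FrobAlg.Twist p A)) :=
    ⟨(FrobAlg.toTwist p A).toCommRingCatIso, rfl⟩
  have hT' : IsPushout (CommRingCat.ofHom (algebraMap A B)) (CommRingCat.ofHom FA)
      (CommRingCat.ofHom (Algebra.TensorProduct.includeLeftRingHom :
        B →+* B ⊗[A] FrobAlg.Twist p A))
      (eTw.hom ≫ CommRingCat.ofHom ((Algebra.TensorProduct.includeRight :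
        FrobAlg.Twist p A →ₐ[A] B ⊗[A] FrobAlg.Twist p A).toRingHom)) := by
    refine IsPushout.of_iso hT (Iso.refl _) (Iso.refl _) eTw.symm (Iso.refl _) ?_ ?_ ?_ ?_
    · simp
    · rw [Iso.symm_hom, Iso.comp_inv_eq, Iso.refl_hom, Category.id_comp, heTw]
      ext a
      change algebraMap A (FrobAlg.Twist p A) a = FrobAlg.toTwist p A (FA a)
      rw [hFA]
      rfl
    · simp
    · simp
  obtain ⟨e, he1, he2⟩ : ∃ e : P ≅ CommRingCat.of (B ⊗[A] FrobAlg.Twist p A),
      inl ≫ e.hom = CommRingCat.ofHom (Algebra.TensorProduct.includeLeftRingHom :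
        B →+* B ⊗[A] FrobAlg.Twist p A) ∧
      inr ≫ e.hom = eTw.hom ≫ CommRingCat.ofHom ((Algebra.TensorProduct.includeRight :
        FrobAlg.Twist p A →ₐ[A] B ⊗[A] FrobAlg.Twist p A).toRingHom) :=
    ⟨h.isoIsPushout _ _ hT', h.inl_isoIsPushout_hom _ _ hT', h.inr_isoIsPushout_hom _ _ hT'⟩
  have hG : G = e.hom ≫ CommRingCat.ofHom (FrobAlg.relFrob p A B) := by
    apply h.hom_ext
    · rw [← Category.assoc, he1]
      ext b
      change G.hom (inl.hom b) = FrobAlg.relFrob p A B (b ⊗ₜ[A] (1 : FrobAlg.Twist p A))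
      rw [hG1, relFrob_tmul'', map_one, map_one, mul_one]
    · rw [← Category.assoc, he2, heTw]
      ext a
      change G.hom (inr.hom a) =
        FrobAlg.relFrob p A B ((1 : B) ⊗ₜ[A] (FrobAlg.toTwist p A a))
      rw [hG2, relFrob_tmul'', one_pow, one_mul, RingEquiv.symm_apply_apply]
  rw [hG]
  change ((FrobAlg.relFrob p A B).comp e.hom.hom).Flat
  exact RingHom.Flat.comp (RingHom.Flat.of_bijective e.commRingCatIsoToRingEquiv.bijective)
    (relFrob_flat_of_smooth p A B)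

theorem frob_appLE_apply (p : ℕ) [Fact p.Prime] (X : Scheme.{u}) [FrobSch.IsCharP X p]
    (U : X.Opens) (e : U ≤ (FrobSch.frob X p) ⁻¹ᵁ U) (a : Γ(X, U)) :
    ((FrobSch.frob X p).appLE U U e).hom a = a ^ p := by
  have h1 : (FrobSch.frob X p).appLE U U e = (FrobSch.frob X p).app U :=
    Scheme.Hom.appLE_eq_app (FrobSch.frob X p) (U := U)
  rw [h1]
  rfl

theorem appLE_comp_eq {X Y Z : Scheme.{u}} (g : X ⟶ Y) (f : Y ⟶ Z) (k : X ⟶ Z)
    (hk : g ≫ f = k) (U : Z.Opens) (V : Y.Opens) (W : X.Opens) (e₁ : V ≤ f ⁻¹ᵁ U)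
    (e₂ : W ≤ g ⁻¹ᵁ V) (e₃ : W ≤ k ⁻¹ᵁ U) :
    f.appLE U V e₁ ≫ g.appLE V W e₂ = k.appLE U W e₃ := by
  subst hk
  exact Scheme.Hom.appLE_comp_appLE g f U V W e₁ e₂

theorem nontrivial_of_mem {X : Scheme.{u}} (U : X.Opens) (x : X) (hx : x ∈ U) :
    Nontrivial Γ(X, U) :=
  RingHom.domain_nontrivial (X.presheaf.germ U x hx).hom

theorem charP_of_natCast_eq_zero (p : ℕ) [hp : Fact p.Prime] (R : Type u) [CommRing R]
    [Nontrivial R] (h : ((p : ℕ) : R) = 0) : CharP R p :=
  (CharP.charP_iff_prime_eq_zero hp.out).2 h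

/-- categorical form of `flat_of_isPushout_frob`. -/
theorem flat_of_isPushout_frob' (p : ℕ) [hp : Fact p.Prime] {A B P : CommRingCat.{u}}
    (φ : A ⟶ B) (FA : A ⟶ A) (hFA : ∀ a : A, FA.hom a = a ^ p) (inl : B ⟶ P) (inr : A ⟶ P)
    (h : IsPushout φ FA inl inr) (G : P ⟶ B) (hG1 : ∀ b : B, G.hom (inl.hom b) = b ^ p)
    (hG2 : ∀ a : A, G.hom (inr.hom a) = φ.hom a) (hpA : ((p : ℕ) : A) = 0)
    [Nontrivial A] [Nontrivial B] (hsm : φ.hom.Smooth) : G.hom.Flat := by
  letI : Algebra A B := φ.hom.toAlgebra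
  haveI : CharP A p := charP_of_natCast_eq_zero p A hpA
  haveI : CharP B p := charP_of_nontrivial p A B
  haveI : Algebra.Smooth A B := hsm
  exact flat_of_isPushout_frob p FA.hom hFA inl inr h G hG1 hG2

theorem flat_relFrob_of_smooth (p : ℕ) [hp : Fact p.Prime] {X S : Scheme.{u}}
    [FrobSch.IsCharP S p] (f : X ⟶ S) [Smooth f] : Flat (FrobSch.relFrob f p) := by
  haveI : FrobSch.IsCharP X p := FrobSch.IsCharP.of_hom f p
  rw [HasRingHomProperty.iff_exists_appLE (P := @Flat)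
      (fun _ S _ _ _ _ _ r _ f hf =>
        RingHom.Flat.stableUnderComposition _ _ (RingHom.Flat.holdsForLocalizationAway S r) hf)]
  intro x
  obtain ⟨VS, hVS, hfxV⟩ : ∃ V : S.Opens, IsAffineOpen V ∧ f x ∈ V := by
    obtain ⟨V, hV, hfxV, -⟩ := TopologicalSpace.Opens.isBasis_iff_nbhd.mp S.isBasis_affineOpens
      (show f x ∈ (⊤ : S.Opens) from trivial)
    exact ⟨V, hV, hfxV⟩
  obtain ⟨U, hU, hxU, eU⟩ : ∃ U : X.Opens, IsAffineOpen U ∧ x ∈ U ∧ U ≤ f ⁻¹ᵁ VS := by
    obtain ⟨U, hU, hxU, e⟩ := TopologicalSpace.Opens.isBasis_iff_nbhd.mp X.isBasis_affineOpens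
      (show x ∈ f ⁻¹ᵁ VS from hfxV)
    exact ⟨U, hU, hxU, e⟩
  have H : IsPullback (pullback.fst f (FrobSch.frob S p)) (pullback.snd f (FrobSch.frob S p)) f
      (FrobSch.frob S p) := IsPullback.of_hasPullback _ _
  have hUST : VS ≤ (FrobSch.frob S p) ⁻¹ᵁ VS := le_of_eq rfl
  obtain ⟨UY, hUY⟩ : ∃ UY : (FrobSch.frobTwist f p).Opens,
      UY = (pullback.fst f (FrobSch.frob S p)) ⁻¹ᵁ U ⊓
        (pullback.snd f (FrobSch.frob S p)) ⁻¹ᵁ VS := ⟨_, rfl⟩
  have hiso : IsIso (pushoutSection H hUST eU hUY) :=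
    isIso_pushoutSection_of_isAffineOpen H hUST eU hUY hVS hVS hU
  have hpo := (isIso_pushoutSection_iff H hUST eU hUY).mp hiso
  have hUYaff : IsAffineOpen UY := by
    haveI : IsAffine (VS : Scheme.{u}) := hVS
    haveI : IsAffine (U : Scheme.{u}) := hU
    exact .of_isIso (Scheme.Hom.isPullback_resLE H hUST eU hUY).isoPullback.hom
  have hle : U ≤ (FrobSch.relFrob f p) ⁻¹ᵁ UY := by
    rw [hUY]
    intro z hz
    refine ⟨?_, ?_⟩
    · change (pullback.fst f (FrobSch.frob S p)) ((FrobSch.relFrob f p) z) ∈ U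
      rw [← Scheme.Hom.comp_apply, FrobSch.relFrob_fst]
      exact hz
    · change (pullback.snd f (FrobSch.frob S p)) ((FrobSch.relFrob f p) z) ∈ VS
      rw [← Scheme.Hom.comp_apply, FrobSch.relFrob_snd]
      exact eU hz
  refine ⟨⟨UY, hUYaff⟩, ⟨U, hU⟩, hxU, hle, ?_⟩
  haveI : Nontrivial Γ(S, VS) := nontrivial_of_mem VS (f x) hfxV
  haveI : Nontrivial Γ(X, U) := nontrivial_of_mem U x hxU
  have hsm : (f.appLE VS U eU).hom.Smooth :=
    (HasRingHomProperty.iff_appLE (P := @Smooth)).1 (inferInstanceAs (Smooth f))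
      ⟨VS, hVS⟩ ⟨U, hU⟩ eU
  refine flat_of_isPushout_frob' p (f.appLE VS U eU) ((FrobSch.frob S p).appLE VS VS hUST)
    (fun a => frob_appLE_apply p S VS hUST a) _ _ hpo
    ((FrobSch.relFrob f p).appLE UY U hle) ?_ ?_ (FrobSch.natCast_eq_zero_app S p VS) hsm
  · intro b
    have h1 := appLE_comp_eq (FrobSch.relFrob f p) (pullback.fst f (FrobSch.frob S p))
      (FrobSch.frob X p) (FrobSch.relFrob_fst f p) U UY U (by rw [hUY]; exact inf_le_left) hle
      (le_of_eq rfl)
    have h2 := congr($(h1).hom b)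
    rw [frob_appLE_apply] at h2
    exact h2
  · intro a
    have h1 := appLE_comp_eq (FrobSch.relFrob f p) (pullback.snd f (FrobSch.frob S p))
      f (FrobSch.relFrob_snd f p) VS UY U (by rw [hUY]; exact inf_le_right) hle eU
    exact congr($(h1).hom a)

end Groth.Agent.Helper2.FrobSynt
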